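import Cfsg.Agent.OD.Pre
import Cfsg.Agent.H6.J4C.F0
import Cfsg.Agent.H6.J4C.O
set_option autoImplicit false
set_option maxRecDepth 100000
set_option Elab.async false
set_option linter.all false
namespace CfH6.J4C
open CfH6 CfH6.D MulAction
theorem p0 : Rng (P.chk) 0 4752 := rng_of 0 37 16 4752 (by decide +kernel)
theorem p1 : Rng (P.chk) 4752 6275 := rng_of 4752 11 115 6275 (by decide +kernel)
theorem c0 : (QO.ok && Nat.blt 0 QO.m && Nat.beq (P.chkCos QO trO 6275 LM ed 0 [nat_lit 6217, nat_lit 30] 0 0 1 ct0) 0) = true := by decide +kernel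
theorem c1 : (QO.ok && Nat.blt 0 QO.m && Nat.beq (P.chkCos QO trO 6275 LM ed 1 [nat_lit 31, nat_lit 33] 1 0 5 ct1) 0) = true := by decide +kernel
theorem l1 : (M24D.QD.ok && Nat.beq (chkLevs M24D.QD M24D.trD P.cdK (P.okE 6275 1) lev1 []) 0 && Nat.beq (lev1.map Lev.c).prod 64512) = true := by decide +kernel
theorem c3 : (QO.ok && Nat.blt 0 QO.m && Nat.beq (P.chkCos QO trO 6275 LM ed 3 [nat_lit 307, nat_lit 200, nat_lit 130, nat_lit 81, nat_lit 136, nat_lit 103, nat_lit 235] 6 0 20 ct3) 0) = true := by decide +kernel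
theorem l3 : (M24D.QD.ok && Nat.beq (chkLevs M24D.QD M24D.trD P.cdK (P.okE 6275 3) lev3 []) 0 && Nat.beq (lev3.map Lev.c).prod 768) = true := by decide +kernel
theorem c4 : (QO.ok && Nat.blt 0 QO.m && Nat.beq (P.chkCos QO trO 6275 LM ed 4 [nat_lit 339, nat_lit 636, nat_lit 358] 26 0 121 ct4) 0) = true := by decide +kernel
theorem l4 : (M24D.QD.ok && Nat.beq (chkLevs M24D.QD M24D.trD P.cdK (P.okE 6275 4) lev4 []) 0 && Nat.beq (lev4.map Lev.c).prod 48) = true := by decide +kernel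
theorem c5 : (QO.ok && Nat.blt 0 QO.m && Nat.beq (P.chkCos QO trO 6275 LM ed 5 [nat_lit 757, nat_lit 752, nat_lit 768, nat_lit 749] 147 0 31 ct5) 0) = true := by decide +kernel
theorem l5 : (M24D.QD.ok && Nat.beq (chkLevs M24D.QD M24D.trD P.cdK (P.okE 6275 5) lev5 []) 0 && Nat.beq (lev5.map Lev.c).prod 192) = true := by decide +kernel
theorem c6 : (QO.ok && Nat.blt 0 QO.m && Nat.beq (P.chkCos QO trO 6275 LM ed 6 [nat_lit 819, nat_lit 875, nat_lit 849, nat_lit 866, nat_lit 830, nat_lit 814] 178 0 60 ct6) 0) = true := by decide +kernel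
theorem l6 : (M24D.QD.ok && Nat.beq (chkLevs M24D.QD M24D.trD P.cdK (P.okE 6275 6) lev6 []) 0 && Nat.beq (lev6.map Lev.c).prod 128) = true := by decide +kernel
theorem c7 : (QO.ok && Nat.blt 0 QO.m && Nat.beq (P.chkCos QO trO 6275 LM ed 7 [nat_lit 958] 238 9 123 ct7) 0) = true := by decide +kernel
theorem l7 : (M24D.QD.ok && Nat.beq (chkLevs M24D.QD M24D.trD P.cdK (P.okE 6275 7) lev7 []) 0 && Nat.beq (lev7.map Lev.c).prod 3) = true := by decide +kernel
theorem c8 : (QO.ok && Nat.blt 0 QO.m && Nat.beq (P.chkCos QO trO 6275 LM ed 8 [nat_lit 2704, nat_lit 2731, nat_lit 2612, nat_lit 2605] 1513 2 31 ct8) 0) = true := by decide +kernel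
theorem l8 : (M24D.QD.ok && Nat.beq (chkLevs M24D.QD M24D.trD P.cdK (P.okE 6275 8) lev8 []) 0 && Nat.beq (lev8.map Lev.c).prod 16) = true := by decide +kernel
theorem c9 : (QO.ok && Nat.blt 0 QO.m && Nat.beq (P.chkCos QO trO 6275 LM ed 9 [nat_lit 3368, nat_lit 3207] 1800 5 47 ct9) 0) = true := by decide +kernel
theorem l9 : (M24D.QD.ok && Nat.beq (chkLevs M24D.QD M24D.trD P.cdK (P.okE 6275 9) lev9 []) 0 && Nat.beq (lev9.map Lev.c).prod 6) = true := by decide +kernel
theorem c10 : (QO.ok && Nat.blt 0 QO.m && Nat.beq (P.chkCos QO trO 6275 LM ed 10 [nat_lit 4747, nat_lit 4744, nat_lit 4726, nat_lit 4733, nat_lit 4724] 2487 0 31 ct10) 0) = true := by decide +kernel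
theorem l10 : (M24D.QD.ok && Nat.beq (chkLevs M24D.QD M24D.trD P.cdK (P.okE 6275 10) lev10 []) 0 && Nat.beq (lev10.map Lev.c).prod 512) = true := by decide +kernel
theorem c11 : (QO.ok && Nat.blt 0 QO.m && Nat.beq (P.chkCos QO trO 6275 LM ed 11 [nat_lit 4789, nat_lit 4802, nat_lit 4819, nat_lit 4822] 2518 0 72 ct11) 0) = true := by decide +kernel
theorem l11 : (M24D.QD.ok && Nat.beq (chkLevs M24D.QD M24D.trD P.cdK (P.okE 6275 11) lev11 []) 0 && Nat.beq (lev11.map Lev.c).prod 96) = true := by decide +kernel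
theorem c12 : (QO.ok && Nat.blt 0 QO.m && Nat.beq (P.chkCos QO trO 6275 LM ed 12 [nat_lit 5053, nat_lit 4939] 2590 1 90 ct12) 0) = true := by decide +kernel
theorem l12 : (M24D.QD.ok && Nat.beq (chkLevs M24D.QD M24D.trD P.cdK (P.okE 6275 12) lev12 []) 0 && Nat.beq (lev12.map Lev.c).prod 20) = true := by decide +kernel
theorem c13 : (QO.ok && Nat.blt 0 QO.m && Nat.beq (P.chkCos QO trO 6275 LM ed 13 [nat_lit 5507, nat_lit 5481, nat_lit 5431, nat_lit 5482] 2808 1 39 ct13) 0) = true := by decide +kernel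
theorem l13 : (M24D.QD.ok && Nat.beq (chkLevs M24D.QD M24D.trD P.cdK (P.okE 6275 13) lev13 []) 0 && Nat.beq (lev13.map Lev.c).prod 32) = true := by decide +kernel
theorem c14 : (QO.ok && Nat.blt 0 QO.m && Nat.beq (P.chkCos QO trO 6275 LM ed 14 [nat_lit 5825, nat_lit 5822, nat_lit 5818, nat_lit 5813, nat_lit 5805] 2975 0 18 ct14) 0) = true := by decide +kernel
theorem l14 : (M24D.QD.ok && Nat.beq (chkLevs M24D.QD M24D.trD P.cdK (P.okE 6275 14) lev14 []) 0 && Nat.beq (lev14.map Lev.c).prod 1152) = true := by decide +kernel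
theorem c15 : (QO.ok && Nat.blt 0 QO.m && Nat.beq (P.chkCos QO trO 6275 LM ed 15 [nat_lit 5888, nat_lit 5881, nat_lit 5874] 2993 0 82 ct15) 0) = true := by decide +kernel
theorem l15 : (M24D.QD.ok && Nat.beq (chkLevs M24D.QD M24D.trD P.cdK (P.okE 6275 15) lev15 []) 0 && Nat.beq (lev15.map Lev.c).prod 96) = true := by decide +kernel
theorem c16 : (QO.ok && Nat.blt 0 QO.m && Nat.beq (P.chkCos QO trO 6275 LM ed 16 [nat_lit 6102, nat_lit 6113] 3075 0 15 ct16) 0) = true := by decide +kernel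
theorem l16 : (M24D.QD.ok && Nat.beq (chkLevs M24D.QD M24D.trD P.cdK (P.okE 6275 16) lev16 []) 0 && Nat.beq (lev16.map Lev.c).prod 253) = true := by decide +kernel
theorem c17 : (QO.ok && Nat.blt 0 QO.m && Nat.beq (P.chkCos QO trO 6275 LM ed 17 [nat_lit 6149, nat_lit 6145, nat_lit 6152] 3090 0 10 ct17) 0) = true := by decide +kernel
theorem l17 : (M24D.QD.ok && Nat.beq (chkLevs M24D.QD M24D.trD P.cdK (P.okE 6275 17) lev17 []) 0 && Nat.beq (lev17.map Lev.c).prod 4608) = true := by decide +kernel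
theorem c18 : (QO.ok && Nat.blt 0 QO.m && Nat.beq (P.chkCos QO trO 6275 LM ed 18 [nat_lit 6167, nat_lit 6168, nat_lit 6173, nat_lit 6169] 3100 0 7 ct18) 0) = true := by decide +kernel
theorem l18 : (M24D.QD.ok && Nat.beq (chkLevs M24D.QD M24D.trD P.cdK (P.okE 6275 18) lev18 []) 0 && Nat.beq (lev18.map Lev.c).prod 21504) = true := by decide +kernel
theorem c19 : (QO.ok && Nat.blt 0 QO.m && Nat.beq (P.chkCos QO trO 6275 LM ed 19 [nat_lit 6189, nat_lit 6183, nat_lit 6190, nat_lit 6184] 3107 0 10 ct19) 0) = true := by decide +kernel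
theorem l19 : (M24D.QD.ok && Nat.beq (chkLevs M24D.QD M24D.trD P.cdK (P.okE 6275 19) lev19 []) 0 && Nat.beq (lev19.map Lev.c).prod 9216) = true := by decide +kernel
theorem c20 : (QO.ok && Nat.blt 0 QO.m && Nat.beq (P.chkCos QO trO 6275 LM ed 20 [nat_lit 6212, nat_lit 6206, nat_lit 6205, nat_lit 6208] 3117 0 4 ct20) 0) = true := by decide +kernel
theorem l20 : (M24D.QD.ok && Nat.beq (chkLevs M24D.QD M24D.trD P.cdK (P.okE 6275 20) lev20 []) 0 && Nat.beq (lev20.map Lev.c).prod 138240) = true := by decide +kernel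
theorem lB : (M24D.QD.ok && Nat.beq (chkLevs M24D.QD M24D.trD P.cdK (P.okP 6275 trO) levB []) 0 && Nat.beq (levB.map Lev.c).prod 64512) = true := by decide +kernel
end CfH6.J4C
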